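import Groth.Agent.Lib.PicAff28.Basic
import Groth.Agent.Lib.FinCov.FrameFree

/-!
# Spreading out generators from affine space over a local ring
-/

universe u

open CategoryTheory AlgebraicGeometry TopologicalSpace Opposite
open GrothLib.InvExt (mres IsGen)
open GrothLib.BCCoh (pullRes)

set_option backward.isDefEq.respectTransparency false

noncomputable section

namespace GrothLib.PicAff28

variable {N : Type u} {X : Scheme.{u}}

theorem presheaf_map_self {Y : Scheme.{u}} {U : Y.Opens} (i : op U ⟶ op U) (c : Γ(Y, U)) :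
    Y.presheaf.map i c = c := by
  rw [Subsingleton.elim i (𝟙 _), CategoryTheory.Functor.map_id]; rfl

theorem appLE_top_apply {Y Z : Scheme.{u}} (f : Y ⟶ Z) (e : (⊤ : Y.Opens) ≤ f ⁻¹ᵁ ⊤) (c : Γ(Z, ⊤)) :
    f.appLE ⊤ ⊤ e c = f.appTop c := presheaf_map_self _ _

theorem fromSpecStalk_appLE {V : X.Opens} {x : X} (hx : x ∈ V)
    (e : (⊤ : (Spec (X.presheaf.stalk x)).Opens) ≤ X.fromSpecStalk x ⁻¹ᵁ V) (t : Γ(X, V)) :
    (X.fromSpecStalk x).appLE V ⊤ e t =
      (Scheme.ΓSpecIso (X.presheaf.stalk x)).inv (X.presheaf.germ V x hx t) := by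
  rw [Scheme.Hom.appLE, Scheme.fromSpecStalk_app hx]
  simp only [CommRingCat.comp_apply]
  rw [← CommRingCat.comp_apply ((Spec (X.presheaf.stalk x)).presheaf.map _), ← Functor.map_comp]
  exact presheaf_map_self _ _

open GrothLib.InvExt in
theorem smul_one_app {N : X.Modules} (φ : Coh.structureModule X ⟶ N) (T : X.Opens) (m : Γ(X, T)) :
    φ.app T m = m • mres N (le_top : T ≤ ⊤) (φ.app ⊤ (1 : Γ(X, ⊤))) := by
  rw [mres_app φ le_top, ← Scheme.Modules.Hom.app_smul]
  obtain ⟨c, hc⟩ := (isGen_one (X := X) ⊤).exists_smul_eq (le_top : T ≤ ⊤) (m : Γ(Coh.structureModule X, T))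
  congr 1
  show m = m * (X.presheaf.map (homOfLE (le_top : T ≤ ⊤)).op (1 : Γ(X, ⊤)))
  rw [map_one, mul_one]

theorem isIso_of_app_bijective {M N : X.Modules} (f : M ⟶ N) (h : ∀ T, Function.Bijective (f.app T)) :
    IsIso f :=
  Scheme.Modules.Hom.isIso_iff_isIso_app.mpr fun T => (ConcreteCategory.isIso_iff_bijective _).mpr (h T)

/-- Functions on affine space over a local ring are fractions of functions over a chart. -/
theorem exists_denom {V : X.Opens} (hV : IsAffineOpen V) {x : X} (hx : x ∈ V)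
    (hle : (⊤ : (AffineSpace N (Spec (X.presheaf.stalk x))).Opens) ≤
      AffineSpace.map N (X.fromSpecStalk x) ⁻¹ᵁ ((AffineSpace N X ↘ X) ⁻¹ᵁ V))
    (z : Γ(AffineSpace N (Spec (X.presheaf.stalk x)), ⊤)) :
    ∃ (a : Γ(AffineSpace N X, (AffineSpace N X ↘ X) ⁻¹ᵁ V)) (s : Γ(X, V)), x ∈ X.basicOpen s ∧
      (AffineSpace.map N (X.fromSpecStalk x)).appLE _ ⊤ hle ((AffineSpace N X ↘ X).app V s) * z =
        (AffineSpace.map N (X.fromSpecStalk x)).appLE _ ⊤ hle a := by
  let j := X.fromSpecStalk x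
  let g := AffineSpace.map N j
  let π := AffineSpace N X ↘ X
  let ρ := AffineSpace N (Spec (X.presheaf.stalk x)) ↘ Spec (X.presheaf.stalk x)
  let G := (g.appLE _ ⊤ hle).hom
  let P := (π.app V).hom
  obtain ⟨p, rfl⟩ := (eval₂_bijective (N := N) (Spec (X.presheaf.stalk x))).2 z
  induction p using MvPolynomial.induction_on with
  | C c =>
    letI := X.presheaf.algebra_section_stalk ⟨x, hx⟩
    haveI := FlatFP.isLocalization_stalk_primeAt hV hx
    obtain ⟨⟨r, s⟩, hrs⟩ := IsLocalization.surj (WeakAss.primeAt x hx).primeCompl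
      ((Scheme.ΓSpecIso (X.presheaf.stalk x)).hom c)
    refine ⟨P r, s.1, ?_, ?_⟩
    · rw [Scheme.mem_basicOpen _ _ x hx]
      exact IsLocalization.map_units (X.presheaf.stalk x) s
    · show G (P s.1) * MvPolynomial.eval₂Hom _ _ (MvPolynomial.C c) = G (P r)
      rw [MvPolynomial.eval₂Hom_C]
      have e₁ : (⊤ : (Spec (X.presheaf.stalk x)).Opens) ≤ j ⁻¹ᵁ V := fun y _ =>
        (AlgebraicGeometry.Scheme.range_fromSpecStalk.le ⟨y, rfl⟩ : j y ⤳ x).mem_open V.2 hx |> id
      have key : ∀ t : Γ(X, V), G (P t) =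
          ρ.appTop ((Scheme.ΓSpecIso (X.presheaf.stalk x)).inv (X.presheaf.germ V x hx t)) := fun t => by
        show g.appLE _ ⊤ hle (π.app V t) = _
        rw [Scheme.Hom.app_eq_appLE, appLE_comp_apply]
        have h2 : ρ.appTop (j.appLE V ⊤ e₁ t) = ρ.appLE ⊤ ⊤ le_top (j.appLE V ⊤ e₁ t) :=
          (appLE_top_apply ρ _ _).symm
        rw [← fromSpecStalk_appLE hx e₁ t, h2, appLE_comp_apply]
        exact congr($(appLE_congr_hom (AffineSpace.map_over j) _ _ _ _) t)
      rw [key, key, ← map_mul]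
      congr 1
      refine (Scheme.ΓSpecIso (X.presheaf.stalk x)).commRingCatIsoToRingEquiv.injective ?_
      show (Scheme.ΓSpecIso _).hom ((Scheme.ΓSpecIso _).inv _ * c) = (Scheme.ΓSpecIso _).hom ((Scheme.ΓSpecIso _).inv _)
      rw [map_mul, Iso.inv_hom_id_apply, Iso.inv_hom_id_apply, mul_comm]
      exact hrs
  | add p q hp hq =>
    obtain ⟨a, s, hs, ha⟩ := hp
    obtain ⟨b, t, ht, hb⟩ := hq
    refine ⟨P t * a + P s * b, s * t, by rw [Scheme.basicOpen_mul]; exact ⟨hs, ht⟩, ?_⟩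
    change G (P _) * _ = G _
    change G (P _) * _ = G _ at ha hb
    rw [map_add (MvPolynomial.eval₂Hom _ _), map_add, map_mul, map_mul, map_mul, map_mul, ← ha, ← hb]
    ring
  | mul_X p i hp =>
    obtain ⟨a, s, hs, ha⟩ := hp
    let T := (AffineSpace N X).presheaf.map (homOfLE (le_top : π ⁻¹ᵁ V ≤ ⊤)).op (AffineSpace.coord X i)
    refine ⟨a * T, s, hs, ?_⟩
    change G (P _) * _ = G _
    change G (P _) * _ = G _ at ha
    have hT : G T = AffineSpace.coord _ i := by
      show (g.appLE _ ⊤ hle) T = _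
      rw [← CommRingCat.comp_apply, Scheme.Hom.map_appLE]
      refine Eq.trans ?_ (AffineSpace.map_appTop_coord j i)
      simp [g, Scheme.Hom.appLE]
    rw [map_mul (MvPolynomial.eval₂Hom _ _), MvPolynomial.eval₂Hom_X', map_mul, hT, ← ha]
    ring

/-- An invertible module trivial on affine space over the local ring at a point has a generator over a
neighbourhood of the point. -/
theorem exists_gen_near {x : X} {L : (AffineSpace N X).Modules} (hL : PicF.IsInvertible L)
    (htriv : Nonempty ((Scheme.Modules.pullback (AffineSpace.map N (X.fromSpecStalk x))).obj L ≅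
      Coh.structureModule (AffineSpace N (Spec (X.presheaf.stalk x))))) :
    ∃ (V : X.Opens) (e : Γ(L, (AffineSpace N X ↘ X) ⁻¹ᵁ V)), x ∈ V ∧
      IsGen L ((AffineSpace N X ↘ X) ⁻¹ᵁ V) e := by
  let π := AffineSpace N X ↘ X
  let g := AffineSpace.map N (X.fromSpecStalk x)
  obtain ⟨_, ⟨V, hV, rfl⟩, hx, -⟩ :=
    X.isBasis_affineOpens.exists_subset_of_mem_open (Set.mem_univ x) isOpen_univ
  have hQ : IsAffineOpen (π ⁻¹ᵁ V) := hV.preimage π
  have hle : (⊤ : (AffineSpace N (Spec (X.presheaf.stalk x))).Opens) ≤ g ⁻¹ᵁ (π ⁻¹ᵁ V) := fun z _ => by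
    show π (g z) ∈ V
    rw [← Scheme.Hom.comp_apply, AffineSpace.map_over, Scheme.Hom.comp_apply]
    exact (Scheme.range_fromSpecStalk.le ⟨_, rfl⟩ : _ ⤳ x).mem_open V.2 hx
  haveI : L.IsQuasicoherent := InvExt.isQuasicoherent_of_isInvertible hL
  let A := Γ(AffineSpace N X, π ⁻¹ᵁ V)
  let A' := Γ(AffineSpace N (Spec (X.presheaf.stalk x)), ⊤)
  letI : Algebra A A' := (g.appLE _ ⊤ hle).hom.toAlgebra
  letI : Module A Γ((Scheme.Modules.pullback g).obj L, ⊤) := Module.compHom _ (g.appLE _ ⊤ hle).hom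
  haveI : IsScalarTower A A' Γ((Scheme.Modules.pullback g).obj L, ⊤) :=
    IsScalarTower.of_algebraMap_smul fun _ _ => rfl
  obtain ⟨p, hp, hpe⟩ := BCCoh.isBaseChange_pullRes g L hQ (isAffineOpen_top _) hle
  -- clearing denominators
  have hden : ∀ w, ∃ (m : Γ(L, π ⁻¹ᵁ V)) (s : Γ(X, V)), x ∈ X.basicOpen s ∧
      algebraMap A A' (π.app V s) • w = p m := fun w => by
    refine hp.inductionOn w
      (fun w => ∃ (m : Γ(L, π ⁻¹ᵁ V)) (s : Γ(X, V)), x ∈ X.basicOpen s ∧
        algebraMap A A' (π.app V s) • w = p m)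
      ⟨0, 1, by rw [Scheme.basicOpen_of_isUnit _ isUnit_one]; exact hx, by rw [smul_zero, map_zero]⟩
      (fun m => ⟨m, 1, by rw [Scheme.basicOpen_of_isUnit _ isUnit_one]; exact hx, by
        rw [map_one, map_one, one_smul]⟩) ?_ ?_
    · rintro c n ⟨m, s, hs, hm⟩
      obtain ⟨a, t, ht, ha⟩ := exists_denom hV hx hle c
      refine ⟨a • m, t * s, by rw [Scheme.basicOpen_mul]; exact ⟨ht, hs⟩, ?_⟩
      rw [map_smul, ← hm, ← algebraMap_smul A' a, smul_smul, smul_smul, map_mul, map_mul]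
      congr 1
      rw [← show algebraMap A A' (π.app V t) * c = algebraMap A A' a from ha]
      ring
    · rintro n₁ n₂ ⟨m₁, s₁, hs₁, hm₁⟩ ⟨m₂, s₂, hs₂, hm₂⟩
      refine ⟨π.app V s₂ • m₁ + π.app V s₁ • m₂, s₁ * s₂, by rw [Scheme.basicOpen_mul]; exact ⟨hs₁, hs₂⟩, ?_⟩
      rw [map_add, map_smul, map_smul, ← hm₁, ← hm₂, ← algebraMap_smul A' (π.app V s₂),
        ← algebraMap_smul A' (π.app V s₁), smul_smul, smul_smul, smul_add, map_mul, map_mul,
        mul_comm (algebraMap A A' (π.app V s₂))]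
  obtain ⟨φ⟩ := htriv
  obtain ⟨ε, hε⟩ : ∃ ε, IsGen ((Scheme.Modules.pullback g).obj L) ⊤ ε :=
    ⟨_, InvExt.IsGen.map φ.inv (InvExt.isGen_one ⊤) fun W _ =>
      ConcreteCategory.bijective_of_isIso (φ.inv.app W)⟩
  obtain ⟨m, s, hs, hm⟩ := hden ε
  have hus : IsUnit (algebraMap A A' (π.app V s)) := by
    refine (AffineSpace N (Spec (X.presheaf.stalk x))).toRingedSpace.isUnit_of_isUnit_germ ⊤ _ fun z hz => ?_
    refine (Scheme.mem_basicOpen _ _ z hz).1 ?_
    show z ∈ (AffineSpace N (Spec (X.presheaf.stalk x))).basicOpen (g.appLE _ ⊤ hle (π.app V s))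
    rw [Scheme.basicOpen_appLE, ← Scheme.preimage_basicOpen π]
    refine ⟨trivial, ?_⟩
    show g z ∈ π ⁻¹ᵁ X.basicOpen s
    show π (g z) ∈ X.basicOpen s
    rw [← Scheme.Hom.comp_apply, AffineSpace.map_over, Scheme.Hom.comp_apply]
    exact (Scheme.range_fromSpecStalk.le ⟨_, rfl⟩ : _ ⤳ x).mem_open (X.basicOpen s).2 hs
  have hgm : IsGen ((Scheme.Modules.pullback g).obj L) ⊤ (pullRes g L (π ⁻¹ᵁ V) ⊤ hle m) := by
    rw [← hpe, ← hm]
    exact hε.smul_unit hus
  -- the locus where `m` generates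
  let W : (AffineSpace N X).Opens :=
    ⨆ U : {U : (AffineSpace N X).Opens // ∃ h : U ≤ π ⁻¹ᵁ V, IsGen L U (mres L h m)}, U.1
  have hWrange : ∀ z, g z ∈ W := fun z => by
    obtain ⟨U, e, hzU, he⟩ := InvExt.exists_gen_nhd hL (g z)
    let U' := U ⊓ π ⁻¹ᵁ V
    have he' := he.restrict (inf_le_left : U' ≤ U)
    obtain ⟨a, ha⟩ := he'.exists_smul_eq le_rfl (mres L (inf_le_right : U' ≤ π ⁻¹ᵁ V) m)
    rw [InvExt.mres_self] at ha
    let Z : (AffineSpace N (Spec (X.presheaf.stalk x))).Opens := g ⁻¹ᵁ U'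
    have hz : z ∈ Z := ⟨hzU, hle (Set.mem_univ z)⟩
    have h1 := hgm.restrict (le_top : Z ≤ ⊤)
    have h2 : mres ((Scheme.Modules.pullback g).obj L) (le_top : Z ≤ ⊤) (pullRes g L (π ⁻¹ᵁ V) ⊤ hle m) =
        g.appLE U' Z le_rfl a • pullRes g L U' Z le_rfl (mres L inf_le_left e) := by
      rw [← BCCoh.pullRes_smul, ← ha]
      exact BCCoh.pullRes_res g L inf_le_right hle le_rfl le_top m
    rw [h2] at h1
    have hua := isUnit_of_isGen_smul (isGen_pullRes g hL he' Z le_rfl) h1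
    have hgz : g z ∈ (AffineSpace N X).basicOpen a := by
      have h3 : z ∈ (AffineSpace N (Spec (X.presheaf.stalk x))).basicOpen (g.appLE U' Z le_rfl a) := by
        rw [Scheme.basicOpen_of_isUnit _ hua]; exact hz
      rw [Scheme.basicOpen_appLE] at h3
      exact h3.2
    let D := (AffineSpace N X).basicOpen a
    have hD : D ≤ U' := (AffineSpace N X).basicOpen_le a
    refine Opens.mem_iSup.2 ⟨⟨D, hD.trans inf_le_right, ?_⟩, hgz⟩
    rw [← InvExt.mres_mres L inf_le_right hD, ha, InvExt.mres_smul]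
    refine (he'.restrict hD).smul_unit ?_
    exact (AffineSpace N X).toRingedSpace.isUnit_res_basicOpen a
  -- spreading out
  let K : Set (PrimeSpectrum A) := (hQ.fromSpec ⁻¹' (W : Set (AffineSpace N X)))ᶜ
  have hK : IsClosed K := (W.2.preimage hQ.fromSpec.continuous).isClosed_compl
  obtain ⟨I, hI⟩ := (PrimeSpectrum.isClosed_iff_zeroLocus_ideal K).1 hK
  let S : Submonoid A := (WeakAss.primeAt x hx).primeCompl.map (π.app V).hom
  obtain ⟨_, hfI, f, hf, rfl⟩ : ∃ f ∈ I, f ∈ S := by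
    by_contra hne
    push Not at hne
    obtain ⟨P, hP, hIP, hPS⟩ := Ideal.exists_le_prime_disjoint I S
      (Set.disjoint_left.2 fun a ha => hne a ha)
    have hPK : (⟨P, hP⟩ : PrimeSpectrum A) ∈ K := by rw [hI]; exact hIP
    let q := hQ.fromSpec ⟨P, hP⟩
    have hqV : q ∈ π ⁻¹ᵁ V := hQ.range_fromSpec.le ⟨_, rfl⟩
    have hsp : π q ⤳ x := by
      refine specializes_iff_forall_open.2 fun O hO hxO => ?_
      obtain ⟨f, hfle, hxf⟩ := hV.exists_basicOpen_le (V := ⟨O ∩ V, hO.inter V.2⟩) ⟨x, hxO, hx⟩ hx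
      have hfS : π.app V f ∈ S := by
        refine ⟨f, ?_, rfl⟩
        intro hm
        letI := X.presheaf.algebra_section_stalk ⟨x, hx⟩
        haveI := FlatFP.isLocalization_stalk_primeAt hV hx
        have hu : IsUnit (algebraMap Γ(X, V) (X.presheaf.stalk x) f) := (X.mem_basicOpen f x hx).1 hxf
        exact (IsLocalization.AtPrime.isUnit_to_map_iff (X.presheaf.stalk x) (WeakAss.primeAt x hx) f).1 hu hm
      have hqf : q ∈ (AffineSpace N X).basicOpen (π.app V f) := by
        have : (⟨P, hP⟩ : PrimeSpectrum A) ∈ PrimeSpectrum.basicOpen (π.app V f : A) := fun hh =>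
          Set.disjoint_left.1 hPS hh hfS
        rw [← hQ.fromSpec_preimage_basicOpen] at this
        exact this
      rw [← Scheme.preimage_basicOpen] at hqf
      exact (hfle hqf).1
    obtain ⟨y, hy⟩ : π q ∈ Set.range (X.fromSpecStalk x) := by
      rw [Scheme.range_fromSpecStalk]; exact hsp
    obtain ⟨z, hz, -⟩ := Scheme.Pullback.exists_preimage_pullback (f := π) (g := X.fromSpecStalk x) q y hy.symm
    let e := (AffineSpace.isPullback_map (n := N) (X.fromSpecStalk x)).isoPullback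
    have hgq : g (e.inv z) = q := by
      rw [← Scheme.Hom.comp_apply, show e.inv ≫ g = Limits.pullback.fst _ _ from
        (AffineSpace.isPullback_map (n := N) (X.fromSpecStalk x)).isoPullback_inv_fst]
      exact hz
    exact hPK (show q ∈ W from hgq ▸ hWrange _)
  have hDW : π ⁻¹ᵁ X.basicOpen f ≤ W := fun q hq => by
    rw [Scheme.preimage_basicOpen] at hq
    obtain ⟨P, rfl⟩ := hQ.range_fromSpec.ge ((AffineSpace N X).basicOpen_le _ hq)
    by_contra hW'
    have h1 : P ∈ K := hW'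
    rw [hI] at h1
    have h2 : P ∈ PrimeSpectrum.basicOpen (π.app V f : A) := by
      rw [← hQ.fromSpec_preimage_basicOpen]; exact hq
    exact h2 (h1 hfI)
  have hfV : π ⁻¹ᵁ X.basicOpen f ≤ π ⁻¹ᵁ V := π.preimage_mono (X.basicOpen_le f)
  refine ⟨X.basicOpen f, mres L hfV m, ?_, ?_⟩
  · letI := X.presheaf.algebra_section_stalk ⟨x, hx⟩
    haveI := FlatFP.isLocalization_stalk_primeAt hV hx
    rw [Scheme.mem_basicOpen _ _ x hx]
    exact IsLocalization.map_units (X.presheaf.stalk x) ⟨f, hf⟩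
  · refine InvExt.isGen_of_cover
      (fun U : {U : (AffineSpace N X).Opens // ∃ h : U ≤ π ⁻¹ᵁ V, IsGen L U (mres L h m)} =>
        π ⁻¹ᵁ X.basicOpen f ⊓ U.1)
      (fun U => inf_le_left) (fun q hq => ?_) fun U => ?_
    · obtain ⟨U, hU⟩ := Opens.mem_iSup.1 (hDW hq)
      exact Opens.mem_iSup.2 ⟨U, hq, hU⟩
    · rw [InvExt.mres_mres, ← InvExt.mres_mres L U.2.choose (inf_le_right : _ ⊓ U.1 ≤ U.1)]
      exact U.2.choose_spec.restrict _

/-- The main gluing statement. -/
theorem nonempty_iso_structureModule [AlgebraicGeometry.IsReduced X]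
    (hX : ∀ L : X.Modules, PicF.IsInvertible L → Nonempty (L ≅ Coh.structureModule X))
    (hloc : ∀ x : X, ∀ L : (AffineSpace N (Spec (X.presheaf.stalk x))).Modules, PicF.IsInvertible L →
      Nonempty (L ≅ Coh.structureModule _))
    (L : (AffineSpace N X).Modules) (hL : PicF.IsInvertible L) :
    Nonempty (L ≅ Coh.structureModule (AffineSpace N X)) := by
  let π := AffineSpace N X ↘ X
  let z := zsec N X
  let M := (Scheme.Modules.pullback z).obj L
  obtain ⟨φ⟩ := hX M (Ample.isInvertible_pullback z hL)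
  let σ : Γ(M, ⊤) := φ.inv.app ⊤ (1 : Γ(X, ⊤))
  have hσ : IsGen M ⊤ σ := InvExt.IsGen.map φ.inv (InvExt.isGen_one ⊤) fun W _ =>
    ConcreteCategory.bijective_of_isIso (φ.inv.app W)
  have hnorm : ∀ x : X, ∃ (V : X.Opens) (e : Γ(L, π ⁻¹ᵁ V)), x ∈ V ∧ IsGen L (π ⁻¹ᵁ V) e ∧
      pullRes z L (π ⁻¹ᵁ V) V (zsec_preimage V) e = mres M le_top σ := fun x => by
    obtain ⟨V, e, hx, he⟩ := exists_gen_near hL (hloc x _ (Ample.isInvertible_pullback _ hL))
    have h1 := isGen_pullRes z hL he V (zsec_preimage V)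
    obtain ⟨c, hc⟩ := h1.exists_smul_eq le_rfl (mres M (le_top : V ≤ ⊤) σ)
    rw [InvExt.mres_self] at hc
    have hu : IsUnit c := isUnit_of_isGen_smul h1 (hc ▸ hσ.restrict le_top)
    refine ⟨V, π.app V c • e, hx, he.smul_unit (hu.map (π.app V).hom), ?_⟩
    rw [BCCoh.pullRes_smul, zsec_appLE_app]
    exact hc.symm
  choose V e hxV he hez using hnorm
  obtain ⟨s, hs⟩ := InvExt.exists_gen_of_glue (fun x => π ⁻¹ᵁ V x) e he (fun x y => by
      let W := V x ⊓ V y
      have ha := (he x).restrict (π.preimage_mono (inf_le_left : W ≤ V x))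
      have hb := (he y).restrict (π.preimage_mono (inf_le_right : W ≤ V y))
      obtain ⟨a, hae⟩ := ha.exists_smul_eq le_rfl (mres L (π.preimage_mono (inf_le_right : W ≤ V y)) (e y))
      rw [InvExt.mres_self] at hae
      have hz : ∀ (v : X) (hWv : W ≤ V v), pullRes z L (π ⁻¹ᵁ W) W (zsec_preimage W)
          (mres L (π.preimage_mono hWv) (e v)) = mres M le_top σ := fun v hWv => by
        refine ((BCCoh.pullRes_res z L (π.preimage_mono hWv) (zsec_preimage (V v)) (zsec_preimage W) hWv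
          (e v)).symm).trans ?_
        rw [hez v]
        exact InvExt.mres_mres M _ _ σ
      have h1 := congrArg (pullRes z L (π ⁻¹ᵁ W) W (zsec_preimage W)) hae
      rw [BCCoh.pullRes_smul, hz x inf_le_left, hz y inf_le_right] at h1
      have ha1 : z.appLE (π ⁻¹ᵁ W) W (zsec_preimage W) a = 1 := by
        refine ((hσ.restrict (le_top : W ≤ ⊤)).smul_left_injective le_rfl ?_)
        rw [InvExt.mres_self, one_smul]
        exact h1.symm
      have hua : IsUnit a := isUnit_of_isGen_smul ha (hae ▸ hb)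
      rw [eq_one_of_zsec hua ha1, one_smul] at hae
      exact hae.symm)
    ⊤ (fun _ => le_top) (fun q _ => Opens.mem_iSup.2 ⟨π q, hxV _⟩)
  let θ := FinCov.homOfSection (X := AffineSpace N X) s
  haveI : IsIso θ := isIso_of_app_bijective θ fun T => by
    have h : ⇑(θ.app T) = fun c : Γ(AffineSpace N X, T) => c • mres L (le_top : T ≤ ⊤) s :=
      funext fun (c : Γ(AffineSpace N X, T)) => by
      refine (smul_one_app θ T c).trans (congrArg (fun w => c • mres L le_top w) ?_)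
      refine (FinCov.homOfSection_one s ⊤).trans ?_
      exact InvExt.mres_self L s
    rw [h]
    exact hs T le_top
  exact ⟨(asIso θ).symm⟩

end GrothLib.PicAff28
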