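import Mathlib.AlgebraicGeometry.AffineSpace
import Groth.Agent.Lib.Ample.PullLift
import Groth.Agent.Lib.BCCoh.PullSec
import Groth.Agent.Lib.FlatFP.Sheaf
import Groth.Agent.Lib.InvExt.FiniteFibre
import Groth.Agent.Lib.InvExt.Transfer

/-!
# Invertible modules on affine space over a reduced base, from the local rings of the base

If every invertible module on `𝔸ⁿ` over each local ring of a reduced scheme `X` is trivial, then an
invertible module on `𝔸ⁿ_X` has generators on the inverse images of small opens; normalised along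
the zero section these are unique, so they glue.
-/

universe u

open CategoryTheory AlgebraicGeometry TopologicalSpace Opposite
open GrothLib.InvExt (mres IsGen)
open GrothLib.BCCoh (pullRes)

set_option backward.isDefEq.respectTransparency false

noncomputable section

namespace GrothLib.PicAff28

variable {N : Type u} {X : Scheme.{u}}

open GrothLib.Ample in
/-- The pullback of a generator generates. -/
theorem isGen_pullRes {X X' : Scheme.{u}} (q : X' ⟶ X) {L : X.Modules} (hL : PicF.IsInvertible L) {V : X.Opens}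
    {e : Γ(L, V)} (he : IsGen L V e) (V' : X'.Opens) (h : V' ≤ q ⁻¹ᵁ V) :
    IsGen ((Scheme.Modules.pullback q).obj L) V' (BCCoh.pullRes q L V V' h e) := by
  obtain ⟨c, ⟨φ⟩⟩ := exists_cocycle hL
  let η := (Scheme.Modules.pullbackPushforwardAdjunction q).unit
  let θ := (Scheme.Modules.pullback q).map φ.inv
  haveI := c.isIso_pullHom q 1
  suffices hgen : IsGen ((Scheme.Modules.pullback q).obj L) (q ⁻¹ᵁ V) ((η.app L).app V e) from hgen.restrict h
  have hcov : q ⁻¹ᵁ V ≤ ⨆ i, q ⁻¹ᵁ (V ⊓ c.D i) := fun x hx => by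
    obtain ⟨i, hi⟩ := c.exists_mem (q x)
    exact Opens.mem_iSup.2 ⟨i, ⟨hx, hi⟩⟩
  refine InvExt.isGen_of_cover (fun i => q ⁻¹ᵁ (V ⊓ c.D i)) (fun i => q.preimage_mono inf_le_left) hcov fun i => ?_
  let b : Γ(L, V ⊓ c.D i) := φ.inv.app (V ⊓ c.D i) (c.base 1 i inf_le_right)
  have hb : IsGen L (V ⊓ c.D i) b := InvExt.IsGen.map φ.inv (c.isGen_base 1 i inf_le_right) fun W _ =>
    ConcreteCategory.bijective_of_isIso (φ.inv.app W)
  have he' := he.restrict (W := V ⊓ c.D i) inf_le_left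
  obtain ⟨r, hr⟩ := hb.exists_smul_eq le_rfl (mres L inf_le_left e)
  obtain ⟨r', hr'⟩ := he'.exists_smul_eq le_rfl b
  rw [InvExt.mres_self] at hr hr'
  have hu : IsUnit r := by
    refine IsUnit.of_mul_eq_one r' ((he' _ le_rfl).1 ?_)
    show (r * r') • mres L le_rfl (mres L inf_le_left e) = (1 : Γ(X, V ⊓ c.D i)) • mres L le_rfl (mres L inf_le_left e)
    rw [InvExt.mres_self, mul_smul, ← hr', ← hr, one_smul]
  have key : mres ((Scheme.Modules.pullback q).obj L) (q.preimage_mono inf_le_left) ((η.app L).app V e) =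
      (q.app (V ⊓ c.D i) r : Γ(X', q ⁻¹ᵁ (V ⊓ c.D i))) • (show Γ((Scheme.Modules.pullback q).obj L, q ⁻¹ᵁ (V ⊓ c.D i)) from (η.app L).app (V ⊓ c.D i) b) := by
    refine (app_mres (η.app L) (inf_le_left : V ⊓ c.D i ≤ V) e).symm.trans ?_
    refine (congrArg ((η.app L).app (V ⊓ c.D i)) hr).trans ?_
    exact app_smul (η.app L) r b
  have hgb : IsGen ((Scheme.Modules.pullback q).obj L) (q ⁻¹ᵁ (V ⊓ c.D i)) ((η.app L).app (V ⊓ c.D i) b) := by
    have h1 : IsGen ((Scheme.Modules.pullback q).obj (c.twist 1)) (q ⁻¹ᵁ c.D i) (c.pullBase q 1 i) := by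
      rw [← c.pullHom_base q 1 i]
      exact InvExt.IsGen.map (c.pullHom q 1) ((c.comap q).isGen_base 1 i le_rfl) fun W _ =>
        ConcreteCategory.bijective_of_isIso ((c.pullHom q 1).app W)
    have h2 := InvExt.IsGen.map θ (h1.restrict (W := q ⁻¹ᵁ (V ⊓ c.D i)) (q.preimage_mono inf_le_right)) fun W _ =>
      ConcreteCategory.bijective_of_isIso (θ.app W)
    have e1 : mres ((Scheme.Modules.pullback q).obj (c.twist 1)) (q.preimage_mono inf_le_right) (c.pullBase q 1 i) =
        (η.app (c.twist 1)).app (V ⊓ c.D i) (c.base 1 i inf_le_right) :=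
      c.mres_pullBase q 1 i inf_le_right
    rw [e1] at h2
    have e2 := congrArg (fun g : c.twist 1 ⟶ _ => g.app (V ⊓ c.D i) (c.base 1 i inf_le_right)) (η.naturality φ.inv)
    have e3 : θ.app (q ⁻¹ᵁ (V ⊓ c.D i)) ((η.app (c.twist 1)).app (V ⊓ c.D i) (c.base 1 i inf_le_right)) =
        (η.app L).app (V ⊓ c.D i) b := e2.symm
    rwa [e3] at h2
  rw [key]
  intro W hW
  have hu' : IsUnit (res hW (q.app (V ⊓ c.D i) r : Γ(X', q ⁻¹ᵁ (V ⊓ c.D i)))) := (hu.map (q.app _).hom).map _
  have := (hgb W hW).comp (IsUnit.isUnit_iff_mulRight_bijective.1 hu')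
  refine (congrArg Function.Bijective (funext fun a => ?_)).mp this
  show (a * res hW _) • mres _ hW _ = a • mres _ hW (_ • _)
  rw [InvExt.mres_smul, mul_smul]

theorem appLE_congr_hom {Y Z : Scheme.{u}} {f f' : Y ⟶ Z} (h : f = f') (U : Z.Opens) (V : Y.Opens)
    (e : V ≤ f ⁻¹ᵁ U) (e' : V ≤ f' ⁻¹ᵁ U) : f.appLE U V e = f'.appLE U V e' := by
  subst h; rfl

theorem appLE_comp_apply {Y Z W : Scheme.{u}} (f : Y ⟶ Z) (g : Z ⟶ W) (U : W.Opens) (V : Z.Opens) (V' : Y.Opens)
    (e₁ : V ≤ g ⁻¹ᵁ U) (e₂ : V' ≤ f ⁻¹ᵁ V) (c : Γ(W, U)) :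
    f.appLE V V' e₂ (g.appLE U V e₁ c) =
      (f ≫ g).appLE U V' (e₂.trans (f.preimage_mono e₁)) c := by
  rw [← Scheme.Hom.appLE_comp_appLE f g U V V' e₁ e₂]; rfl

/-- The ratio of two generators is a unit. -/
theorem isUnit_of_isGen_smul {M : X.Modules} {V : X.Opens} {e : Γ(M, V)} (he : IsGen M V e)
    {a : Γ(X, V)} (hae : IsGen M V (a • e)) : IsUnit a := by
  obtain ⟨b, hb⟩ := hae.exists_smul_eq le_rfl e
  rw [InvExt.mres_self] at hb
  refine IsUnit.of_mul_eq_one b (he.smul_left_injective le_rfl ?_)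
  rw [InvExt.mres_self, one_smul, mul_comm, mul_smul]
  exact hb.symm

section Affine

variable (S : Scheme.{u}) [IsAffine S]

/-- Functions on affine space over an affine scheme are polynomials. -/
theorem eval₂_bijective : Function.Bijective
    (MvPolynomial.eval₂Hom (AffineSpace N S ↘ S).appTop.hom (AffineSpace.coord (n := N) S)) := by
  have h : Function.Bijective (AffineSpace.isoOfIsAffine N S).hom.appTop :=
    ConcreteCategory.bijective_of_isIso (AffineSpace.isoOfIsAffine N S).hom.appTop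
  rw [AffineSpace.isoOfIsAffine_hom_appTop] at h
  have h' : Function.Bijective (Scheme.ΓSpecIso (CommRingCat.of (MvPolynomial N Γ(S, ⊤)))).hom :=
    ConcreteCategory.bijective_of_isIso _
  exact (Function.Bijective.of_comp_iff _ h').1 h

/-- Units on affine space over a reduced affine scheme are constants. -/
theorem exists_const_of_isUnit_affine [_root_.IsReduced Γ(S, ⊤)] {t : Γ(AffineSpace N S, ⊤)} (ht : IsUnit t) :
    ∃ c, (AffineSpace N S ↘ S).appTop c = t := by
  obtain ⟨p, rfl⟩ := (eval₂_bijective (N := N) S).2 t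
  let E := RingEquiv.ofBijective _ (eval₂_bijective (N := N) S)
  have hp : IsUnit p := by
    have := ht.map E.symm
    exact (congrArg IsUnit (E.symm_apply_apply p)).mp this
  obtain ⟨c, -, rfl⟩ := MvPolynomial.isUnit_iff_eq_C_of_isReduced.1 hp
  exact ⟨c, (MvPolynomial.eval₂_C _ _ _).symm⟩

end Affine

/-- Units of affine space over an affine open of a reduced scheme come from the base. -/
theorem exists_const_of_isUnit [AlgebraicGeometry.IsReduced X] {U : X.Opens} (hU : IsAffineOpen U)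
    {a : Γ(AffineSpace N X, (AffineSpace N X ↘ X) ⁻¹ᵁ U)} (ha : IsUnit a) :
    ∃ c : Γ(X, U), (AffineSpace N X ↘ X).app U c = a := by
  haveI : IsAffine (U : Scheme.{u}) := hU
  let π := AffineSpace N X ↘ X
  let ρ := AffineSpace N (U : Scheme.{u}) ↘ (U : Scheme.{u})
  let j := AffineSpace.map N U.ι
  haveI : IsOpenImmersion j :=
    MorphismProperty.of_isPullback (AffineSpace.isPullback_map U.ι).flip inferInstance
  have hr : j.opensRange = π ⁻¹ᵁ U := by
    refine Opens.ext ?_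
    show Set.range j = π ⁻¹' (U : Set X)
    have e := (AffineSpace.isPullback_map (n := N) U.ι).isoPullback_hom_fst
    rw [show j = _ from e.symm, Scheme.Hom.comp_base, TopCat.coe_comp,
      Set.range_comp, Set.range_eq_univ.2 (AffineSpace.isPullback_map (n := N) U.ι).isoPullback.hom.surjective,
      Set.image_univ]
    rw [Scheme.Pullback.range_fst, Scheme.Opens.range_ι]
  have hle : (⊤ : (AffineSpace N (U : Scheme.{u})).Opens) ≤ j ⁻¹ᵁ (π ⁻¹ᵁ U) := fun z _ =>
    hr.le ⟨z, rfl⟩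
  obtain ⟨c', hc'⟩ := exists_const_of_isUnit_affine (N := N) (U : Scheme.{u})
    (ha.map (j.appLE (π ⁻¹ᵁ U) ⊤ hle).hom)
  have e₂ : (⊤ : (U : Scheme.{u}).Opens) ≤ U.ι ⁻¹ᵁ U := fun z _ => z.2
  have hb : Function.Bijective (U.ι.appLE U ⊤ e₂) := by
    haveI := U.ι.isIso_app U (by simp)
    rw [Scheme.Hom.appLE]
    have h1 : U.ι ⁻¹ᵁ U = ⊤ := by simp
    haveI : IsIso ((U : Scheme.{u}).presheaf.map (homOfLE e₂).op) := by
      haveI : IsIso (homOfLE e₂) := ⟨homOfLE h1.le, rfl, rfl⟩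
      infer_instance
    exact ConcreteCategory.bijective_of_isIso _
  obtain ⟨c, rfl⟩ := hb.2 c'
  refine ⟨c, ?_⟩
  have hinj : Function.Injective (j.appLE (π ⁻¹ᵁ U) ⊤ hle) := by
    haveI := j.isIso_app (π ⁻¹ᵁ U) hr.ge
    rw [Scheme.Hom.appLE]
    have h1 : j ⁻¹ᵁ (π ⁻¹ᵁ U) = ⊤ := top_le_iff.1 hle
    haveI : IsIso ((AffineSpace N (U : Scheme.{u})).presheaf.map (homOfLE hle).op) := by
      haveI : IsIso (homOfLE hle) := ⟨homOfLE h1.le, rfl, rfl⟩
      infer_instance
    exact (ConcreteCategory.bijective_of_isIso _).1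
  refine hinj (Eq.trans ?_ hc')
  rw [Scheme.Hom.app_eq_appLE, appLE_comp_apply]
  refine Eq.trans ?_ (show ρ.appLE ⊤ ⊤ le_top (U.ι.appLE U ⊤ e₂ c) = ρ.appTop (U.ι.appLE U ⊤ e₂ c) by
    simp [Scheme.Hom.appLE, Scheme.Hom.appTop])
  rw [appLE_comp_apply]
  exact congr($(appLE_congr_hom (AffineSpace.map_over U.ι) _ _ _ _) c)

/-- The zero section of affine space. -/
def zsec (N : Type u) (X : Scheme.{u}) : X ⟶ AffineSpace N X :=
  AffineSpace.homOfVector (𝟙 X) fun _ => 0

theorem zsec_over : zsec N X ≫ (AffineSpace N X ↘ X) = 𝟙 X := AffineSpace.homOfVector_over _ _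

theorem zsec_preimage (U : X.Opens) : U ≤ zsec N X ⁻¹ᵁ ((AffineSpace N X ↘ X) ⁻¹ᵁ U) := fun z hz => by
  show (AffineSpace N X ↘ X) (zsec N X z) ∈ U
  rw [← Scheme.Hom.comp_apply, zsec_over]
  exact hz

theorem zsec_appLE_app (U : X.Opens) (c : Γ(X, U)) :
    (zsec N X).appLE ((AffineSpace N X ↘ X) ⁻¹ᵁ U) U (zsec_preimage U)
      ((AffineSpace N X ↘ X).app U c) = c := by
  rw [Scheme.Hom.app_eq_appLE, appLE_comp_apply]
  have e : U ≤ (𝟙 X) ⁻¹ᵁ U := le_rfl
  refine congr($(appLE_congr_hom zsec_over _ _ _ e) c).trans ?_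
  rw [Scheme.Hom.appLE, Scheme.Hom.id_app]
  exact congr($(X.presheaf.map_id _) c)

/-- A unit on `𝔸ⁿ` over an open of a reduced scheme is one if it is one on the zero section. -/
theorem eq_one_of_zsec [AlgebraicGeometry.IsReduced X] {W : X.Opens}
    {a : Γ(AffineSpace N X, (AffineSpace N X ↘ X) ⁻¹ᵁ W)} (ha : IsUnit a)
    (h : (zsec N X).appLE ((AffineSpace N X ↘ X) ⁻¹ᵁ W) W (zsec_preimage W) a = 1) : a = 1 := by
  let π := AffineSpace N X ↘ X
  let ι := {U : X.Opens // IsAffineOpen U ∧ U ≤ W}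
  refine (AffineSpace N X).sheaf.eq_of_locally_eq' (fun i : ι => π ⁻¹ᵁ i.1) _
    (fun i => homOfLE (π.preimage_mono i.2.2)) (fun z hz => ?_) a 1 fun i => ?_
  · obtain ⟨_, ⟨U, hU, rfl⟩, hzU, hUW⟩ := X.isBasis_affineOpens.exists_subset_of_mem_open (show π z ∈ (W : Set X) from hz) W.2
    exact Opens.mem_iSup.2 ⟨⟨U, hU, hUW⟩, hzU⟩
  · change (InvExt.fres _ (π.preimage_mono i.2.2) a) =
      InvExt.fres _ (π.preimage_mono i.2.2) (1 : Γ(AffineSpace N X, π ⁻¹ᵁ W))
    have hu := ha.map ((AffineSpace N X).presheaf.map (homOfLE (π.preimage_mono i.2.2)).op).hom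
    obtain ⟨c, hc⟩ := exists_const_of_isUnit i.2.1 hu
    have h1 : (zsec N X).appLE _ i.1 (zsec_preimage i.1)
        ((AffineSpace N X).presheaf.map (homOfLE (π.preimage_mono i.2.2)).op a) = 1 := by
      have := congrArg (X.presheaf.map (homOfLE i.2.2).op) h
      rw [map_one, ← CommRingCat.comp_apply, Scheme.Hom.appLE_map] at this
      rw [← CommRingCat.comp_apply, Scheme.Hom.map_appLE]
      exact this
    rw [← hc, zsec_appLE_app] at h1
    show (AffineSpace N X).presheaf.map _ a = (AffineSpace N X).presheaf.map _ 1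
    rw [map_one]
    exact hc.symm.trans ((congrArg _ h1).trans (map_one _))

end GrothLib.PicAff28
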